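import Cfsg.Agent.H865.EE.Base

/-!
# Computations with `w₈` in the root lattice of `E₈` (helper136, S3384)

List versions of the form, of `w8` and of the reflections `rr a = s_a s_(w8 a)`; `RR` = the subgroup generated by the
`rr a` (`RR ≤ CW`); `exists_word` : a word of indices of roots gives an element of `RR`.
-/

set_option autoImplicit false
set_option linter.unusedSectionVars false

namespace Cfsg.Agent.H136.EE

open CoxeterSystem Subgroup Cfsg Cfsg.Lie Cfsg.Lie.ChevalleyDatum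
open Cfsg.Agent.ChevalleyStructure Cfsg.Agent.ChevalleyStructure.Elts Cfsg.Agent.ChevalleyStructure.CoxeterGeom
  Cfsg.Agent.ChevalleyStructure.CoxeterGeomTypes Cfsg.Agent.ChevalleyStructure.NPerm
open Cfsg.Agent.Tits.Roots Cfsg.Agent.Tits.Core Cfsg.Agent.Nodes Cfsg.Agent.Nodes.SubComb Cfsg.Agent.Nodes.Reps Cfsg.Agent.Nodes.BNOf
  Cfsg.Agent.Nodes.RGDChev Cfsg.Agent.Nodes.Bruhat Cfsg.Agent.Nodes.Coroot
open Cfsg.Agent.H865.EE

/-! ### List versions -/

/-- the form on lists -/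
def bL : List ℤ → List ℤ → ℤ
  | [x0, x1, x2, x3, x4, x5, x6, x7], [y0, y1, y2, y3, y4, y5, y6, y7] =>
    x0 * (2 * y0 - y2) + x1 * (2 * y1 - y3) + x2 * (2 * y2 - y0 - y3) + x3 * (2 * y3 - y1 - y2 - y4) +
      x4 * (2 * y4 - y3 - y5) + x5 * (2 * y5 - y4 - y6) + x6 * (2 * y6 - y5 - y7) + x7 * (2 * y7 - y6)
  | _, _ => 0

/-- `w8` on lists -/
def JL : List ℤ → List ℤ
  | [x0, x1, x2, x3, x4, x5, x6, x7] =>
    [x0 - 2 * x5 + 2 * x6, 2 * x0 + x1 - x3 - 2 * x5 + 3 * x6 - x7, 2 * x0 + x1 - x3 - 3 * x5 + 4 * x6,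
      3 * x0 + 2 * x1 - 2 * x3 + x4 - 5 * x5 + 6 * x6 - x7, 3 * x0 + 2 * x1 - 2 * x3 + x4 - 4 * x5 + 4 * x6,
      3 * x0 + x1 - x2 - x3 + x4 - 3 * x5 + 3 * x6, 2 * x0 + x1 - x2 - x3 + x4 - 2 * x5 + 2 * x6,
      x0 + x1 - x2 - x5 + x6]
  | _ => []

/-- `x - a d - b e` on lists -/
def lin (a b : ℤ) : List ℤ → List ℤ → List ℤ → List ℤ
  | x :: xs, d :: ds, e :: es => (x - a * d - b * e) :: lin a b xs ds es
  | _, _, _ => []

/-- the reflection `rr d` on lists -/
def rL (d x : List ℤ) : List ℤ := lin (bL x d) (bL x (JL d)) x d (JL d)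

theorem toL_eq (x : Fin 8 → ℤ) : toL x = [x 0, x 1, x 2, x 3, x 4, x 5, x 6, x 7] := rfl

theorem bf_eq (x y : Fin 8 → ℤ) : bf x y = bL (toL x) (toL y) := by
  rw [toL_eq, toL_eq]
  simp only [bf, bL, Fin.sum_univ_eight, C8, Matrix.cons_val_zero, Matrix.cons_val_one, Matrix.cons_val]
  ring

theorem toL_w8 (x : Fin 8 → ℤ) : toL (act w8 x) = JL (toL x) := by
  rw [act_w8, toL_eq, toL_eq]
  simp only [JL, Fin.sum_univ_eight, WM, Matrix.cons_val_zero, Matrix.cons_val_one, Matrix.cons_val]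
  congr 1
  · ring
  congr 1
  · ring
  congr 1
  · ring
  congr 1
  · ring
  congr 1
  · ring
  congr 1
  · ring
  congr 1
  · ring
  congr 1
  ring

theorem bf_w8 (x y : Fin 8 → ℤ) : bf (act w8 x) (act w8 y) = bf x y := bf_act w8 x y

theorem bf_w8_left (x y : Fin 8 → ℤ) : bf (act w8 x) y = - bf x (act w8 y) := by
  rw [← bf_act w8 (act w8 x) y, w8_sq, bf_neg_left]

theorem bf_w8_self (x : Fin 8 → ℤ) : bf x (act w8 x) = 0 := by
  have h := bf_w8_left x x
  rw [bf_comm] at h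
  omega

theorem rt_act (v : W8) {a : Fin 8 → ℤ} (ha : Rt a) : Rt (act v a) := ha.act v

theorem act_rr {d : Fin 8 → ℤ} (hd : Rt d) (x : Fin 8 → ℤ) :
    act (rr d) x = x - bf x d • d - bf x (act w8 d) • act w8 d := by
  have h1 : Rt (act w8 d) := rt_act w8 hd
  rw [rr, act_mul, act_rf h1, act_rf hd, bf_sub_left, bf_smul_left, bf_comm (act w8 d) d, bf_w8_self, mul_zero, sub_zero]
  abel

theorem rr_mem_CW {d : Fin 8 → ℤ} (hd : Rt d) : rr d ∈ CW := by
  refine mem_CW.2 fun x => ?_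
  rw [act_rr hd, act_rr hd, map_sub, map_sub, map_smul, map_smul, w8_sq, bf_w8, bf_w8_left]
  module

theorem lin_toL (a b : ℤ) (x d e : Fin 8 → ℤ) : lin a b (toL x) (toL d) (toL e) = toL (x - a • d - b • e) := by
  simp only [toL_eq, lin, Pi.sub_apply, Pi.smul_apply, smul_eq_mul]

theorem toL_rr {d : Fin 8 → ℤ} (hd : Rt d) (x : Fin 8 → ℤ) : toL (act (rr d) x) = rL (toL d) (toL x) := by
  rw [act_rr hd, rL, ← toL_w8, ← bf_eq, ← bf_eq, lin_toL]

/-! ### Words of reflections -/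

/-- the group generated by the reflections `rr a` -/
noncomputable def RR : Subgroup W8 := Subgroup.closure {v | ∃ a, Rt a ∧ v = rr a}

theorem rr_mem_RR {a : Fin 8 → ℤ} (ha : Rt a) : rr a ∈ RR := Subgroup.subset_closure ⟨a, ha, rfl⟩

theorem RR_le : RR ≤ CW := by
  rw [RR, Subgroup.closure_le]
  rintro _ ⟨a, ha, rfl⟩
  exact rr_mem_CW ha

/-- apply a word of reflections (given by indices of roots), first letter first -/
def apR (w : List ℕ) (x : List ℤ) : List ℤ := w.foldl (fun x d => rL (RL.getD d []) x) x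

/-- the vector of a list -/
def ofL (l : List ℤ) : Fin 8 → ℤ := fun i => l.getD i 0

theorem RL_len : (RL.all fun l => decide (toL (ofL l) = l)) = true := by decide +kernel

theorem toL_ofL {l : List ℤ} (h : l ∈ RL) : toL (ofL l) = l := by
  simpa using List.all_eq_true.1 RL_len l h

theorem root_ofL {l : List ℤ} (h : l ∈ RL) : Rt (ofL l) := by
  rw [rt_iff, toL_ofL h]
  exact h

theorem length_RL : RL.length = 240 := by decide +kernel

theorem exists_word : ∀ {w : List ℕ}, (w.all fun d => decide (d < 240)) = true →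
    ∃ v ∈ RR, ∀ x, toL (act v x) = apR w (toL x)
  | [], _ => ⟨1, one_mem _, fun x => by rw [act_one]; rfl⟩
  | d :: w, hw => by
    rw [List.all_cons, Bool.and_eq_true, decide_eq_true_eq] at hw
    obtain ⟨v, hv, h⟩ := exists_word hw.2
    have hd : RL.getD d [] ∈ RL := by
      rw [List.getD_eq_getElem _ _ (length_RL ▸ hw.1)]
      exact List.getElem_mem _
    refine ⟨v * rr (ofL (RL.getD d [])), mul_mem hv (rr_mem_RR (root_ofL hd)), fun x => ?_⟩
    rw [act_mul, h, toL_rr (root_ofL hd), toL_ofL hd]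
    rfl

theorem tab_all {P : List ℤ → List ℕ → Bool} {t : List (List ℕ)}
    (h : (RL.zipIdx.all fun p => P p.1 (t.getD p.2 [])) = true) : ∀ x ∈ RL, ∃ w, P x w = true := by
  intro x hx
  obtain ⟨i, hi, rfl⟩ := List.mem_iff_getElem.1 hx
  have hm : (RL[i], i) ∈ RL.zipIdx := by
    rw [List.mem_zipIdx_iff_getElem?]
    simp [List.getElem?_eq_getElem hi]
  exact ⟨_, List.all_eq_true.1 h _ hm⟩

end Cfsg.Agent.H136.EE
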