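import Cfsg.Agent.H136.EE.Comp

/-!
# The classification of the `D₄`-systems of `w₈` (helper136, S3384, piece C1)

`exists_conj` : every `Quad b` is conjugate under `CW` to a permutation of `q1` or of `q2`.
-/

set_option autoImplicit false
set_option linter.unusedSectionVars false

namespace Cfsg.Agent.H136.EE

open CoxeterSystem Subgroup Cfsg Cfsg.Lie Cfsg.Lie.ChevalleyDatum
open Cfsg.Agent.ChevalleyStructure Cfsg.Agent.ChevalleyStructure.Elts Cfsg.Agent.ChevalleyStructure.CoxeterGeom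
  Cfsg.Agent.ChevalleyStructure.CoxeterGeomTypes Cfsg.Agent.ChevalleyStructure.NPerm
open Cfsg.Agent.Tits.Roots Cfsg.Agent.Tits.Core Cfsg.Agent.Nodes Cfsg.Agent.Nodes.SubComb Cfsg.Agent.Nodes.Reps Cfsg.Agent.Nodes.BNOf
  Cfsg.Agent.Nodes.RGDChev Cfsg.Agent.Nodes.Bruhat Cfsg.Agent.Nodes.Coroot
open Cfsg.Agent.H865.EE

/-- the roots `q1 0`, `q1 1` as lists -/
abbrev c0L : List ℤ := [-2, -3, -4, -6, -4, -3, -2, -1]

/-- the root `q1 1` as a list -/
abbrev a0L : List ℤ := [0, 0, 0, 1, 0, 0, 0, 0]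

/-- the first system as lists -/
abbrev q1L : List (List ℤ) := [c0L, a0L, [0, 0, 0, -1, -1, -1, -1, -1], [0, 1, 1, 1, 1, 1, 1, 1]]

/-- the second system as lists -/
abbrev q2L : List (List ℤ) := [c0L, a0L, [0, 0, 0, -1, -1, -1, -1, -1], [1, 1, 2, 2, 2, 1, 1, 1]]

/-- the first `D₄`-system -/
def q1 : Fin 4 → Fin 8 → ℤ := fun i => ofL (q1L.getD i [])

/-- the second `D₄`-system -/
def q2 : Fin 4 → Fin 8 → ℤ := fun i => ofL (q2L.getD i [])

/-- the permutations of the three ends -/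
def pm : Fin 6 → Fin 4 → Fin 4 := ![![0, 1, 2, 3], ![0, 1, 3, 2], ![2, 1, 0, 3], ![2, 1, 3, 0], ![3, 1, 0, 2], ![3, 1, 2, 0]]

theorem pm_bij (t : Fin 6) : Function.Bijective (pm t) := by revert t; decide

theorem pm_one (t : Fin 6) : pm t 1 = 1 := by revert t; decide

/-- words of reflections moving the roots to `q1 1` -/
def tA : List (List ℕ) := [
  [216], [235, 236], [217, 221], [231, 238], [157, 235], [235], [135, 235], [158, 235], [148, 235], [231], [133, 231],
  [196, 208], [152, 235], [195], [216, 238], [133, 196, 238], [202, 238], [218, 235], [171, 235], [196, 238],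
  [195, 238], [216, 236], [157, 217], [188, 231, 238], [216, 219], [151, 216, 238], [217], [199, 235], [215],
  [217, 238], [217, 227], [214, 235], [200, 235], [191, 235], [192, 235], [182, 238], [199, 236], [171, 231],
  [225, 231], [195, 236], [199, 219], [157, 202, 238], [208, 224], [213, 216], [211, 231, 238], [195, 225], [199],
  [215, 235], [202], [196], [208, 235], [221], [216, 227], [202, 227], [224, 235], [213, 235], [188, 231], [214, 231],
  [208, 236], [215, 229], [192, 231], [219, 231], [199, 219, 235], [208, 225], [157, 217, 238], [192, 221], [208, 229],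
  [208], [221, 235], [182], [195, 227], [216, 229], [211, 231], [224, 231], [221, 229], [208, 225, 235], [199, 229],
  [195, 229], [199, 238], [143, 238], [133, 238], [196, 236], [216, 224], [152, 236], [210, 235], [211, 216, 238],
  [157, 238], [230, 231, 238], [155], [235, 238], [238], [215, 225], [154], [191, 217], [188, 235], [214], [215, 234],
  [192, 238], [142], [199, 225], [211, 235], [224], [221, 234], [171, 238], [161], [216, 234], [148, 235, 238],
  [148, 238], [213, 216, 236], [157], [143], [217, 218], [236], [231, 236], [188, 236], [133], [133, 236], [155, 229],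
  [227, 231], [191, 238], [208, 238], [152, 238], [151, 238], [229, 235], [152], [182, 236], [157, 235, 238],
  [227, 236], [196, 223, 238], [223, 235], [], [211, 218], [227], [230, 238], [139], [192, 236], [135], [208, 234],
  [192], [219, 235], [208, 219], [171, 236], [158], [199, 234], [171], [225, 235], [211, 221], [148], [199, 223, 236],
  [229, 238], [152, 235, 238], [195, 234], [234, 236], [229], [213, 225], [151], [229, 230], [223, 224], [211, 236],
  [227, 234], [139, 229], [213, 238], [224, 230], [157, 219, 238], [225, 234], [188, 238], [210, 227], [215, 230],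
  [214, 230], [224, 234], [133, 225], [221, 234, 235], [157, 225], [157, 225, 238], [218], [213, 229], [225],
  [219, 234], [199, 230], [210, 238], [211, 238], [225, 227], [223, 227], [221, 230], [217, 234], [210, 229],
  [191, 236], [214, 234], [188, 221], [143, 223, 238], [217, 223], [192, 225], [215, 234, 235], [215, 223], [188],
  [219, 238], [200], [191], [191, 229], [219], [192, 230], [208, 230], [223, 238], [219, 227], [218, 229], [210, 236],
  [202, 234], [196, 234], [223, 229], [213, 236], [196, 234, 238], [199, 223], [152, 211, 238], [196, 223], [188, 234],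
  [211], [225, 238], [213], [171, 230], [192, 234], [200, 229], [223, 236], [182, 234], [182, 234, 238], [211, 234],
  [171, 234], [210], [133, 230], [200, 225], [152, 234], [154, 234], [230], [142, 234], [161, 234], [234, 235], [234],
  [234, 238], [188, 213], [230, 236], [223]]

/-- words of reflections moving the neighbours to `q1 0` -/
def tB : List (List ℕ) := [
  [], [], [], [], [], [], [], [], [147], [], [], [], [], [], [], [], [], [], [], [], [], [], [184], [], [184, 226], [],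
  [], [], [], [], [], [], [], [], [], [], [], [], [], [], [207, 226], [], [206], [207], [], [206, 239], [], [], [], [],
  [], [], [], [], [], [], [], [], [], [], [], [], [], [222, 239], [], [222], [], [], [], [], [], [], [], [], [], [],
  [], [], [], [], [], [], [], [], [226], [], [233, 239], [], [], [], [], [], [], [], [], [], [], [232], [], [], [], [],
  [], [233], [], [204], [], [184, 233], [], [], [], [], [], [], [], [], [], [], [], [], [], [], [], [], [], [], [],
  [232, 239], [], [239], [], [], [], [], [], [147, 232], [], [], [], [], [], [147, 233], [], [], [], [], [], [], [],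
  [222, 233], [], [220], [], [], [], [], [], [], [], [], [], [], [], [], [], [], [], [], [], [], [206, 226], [],
  [206, 237], [], [], [], [], [], [], [], [], [], [], [], [], [], [], [], [222, 237], [], [184, 239], [222, 226], [],
  [184, 237], [], [], [], [], [], [], [], [], [], [], [], [], [], [], [], [], [], [207, 237], [], [207, 239], [], [],
  [], [], [], [], [], [], [], [], [], [], [], [], [], [], [237], [], [], [], [204, 239], [], [], [], [], []]

/-- the completions of the pair `q1 0`, `q1 1`: the two roots, the class, the permutation, the word -/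
def tC : List (List ℤ × List ℤ × Bool × Fin 6 × List ℕ) := [
  ([0, 0, 0, -1, -1, -1, -1, -1], [0, 1, 1, 1, 1, 1, 1, 1], false, 0, []),
  ([0, 0, 0, -1, -1, -1, -1, -1], [1, 1, 2, 2, 2, 1, 1, 1], true, 0, []),
  ([0, 0, 0, -1, -1, -1, -1, -1], [1, 2, 2, 3, 3, 3, 2, 1], true, 0, [181]),
  ([0, 0, 0, -1, -1, -1, -1, -1], [2, 2, 3, 4, 4, 3, 2, 1], false, 0, [181]),
  ([0, 0, 1, 0, 0, 0, 0, 0], [0, 1, 0, 0, 0, 0, 0, 0], true, 4, [184, 232, 239]),
  ([0, 0, 1, 0, 0, 0, 0, 0], [2, 2, 3, 4, 4, 3, 2, 1], true, 1, [203]),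
  ([0, 1, 0, 0, 0, 0, 0, 0], [0, 0, 1, 0, 0, 0, 0, 0], true, 5, [184, 232, 239]),
  ([0, 1, 0, 0, 0, 0, 0, 0], [2, 2, 3, 4, 4, 3, 2, 1], true, 1, [146, 203]),
  ([0, 1, 1, 1, 1, 1, 1, 1], [0, 0, 0, -1, -1, -1, -1, -1], false, 1, []),
  ([0, 1, 1, 1, 1, 1, 1, 1], [1, 1, 1, 1, 1, 0, 0, 0], true, 0, [146]),
  ([0, 1, 1, 1, 1, 1, 1, 1], [1, 1, 2, 2, 2, 2, 1, 0], true, 0, [181, 203]),
  ([0, 1, 1, 1, 1, 1, 1, 1], [2, 2, 3, 4, 4, 3, 2, 1], false, 1, [203]),
  ([1, 1, 1, 1, 1, 0, 0, 0], [0, 1, 1, 1, 1, 1, 1, 1], true, 1, [146]),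
  ([1, 1, 1, 1, 1, 0, 0, 0], [1, 1, 2, 2, 2, 2, 1, 0], true, 4, [184, 206, 239]),
  ([1, 1, 2, 2, 2, 1, 1, 1], [0, 0, 0, -1, -1, -1, -1, -1], true, 1, []),
  ([1, 1, 2, 2, 2, 1, 1, 1], [1, 2, 2, 3, 3, 3, 2, 1], true, 4, [184, 239]),
  ([1, 1, 2, 2, 2, 2, 1, 0], [0, 1, 1, 1, 1, 1, 1, 1], true, 1, [181, 203]),
  ([1, 1, 2, 2, 2, 2, 1, 0], [1, 1, 1, 1, 1, 0, 0, 0], true, 5, [184, 206, 239]),
  ([1, 2, 2, 3, 3, 3, 2, 1], [0, 0, 0, -1, -1, -1, -1, -1], true, 1, [181]),
  ([1, 2, 2, 3, 3, 3, 2, 1], [1, 1, 2, 2, 2, 1, 1, 1], true, 5, [184, 239]),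
  ([2, 2, 3, 4, 4, 3, 2, 1], [0, 0, 0, -1, -1, -1, -1, -1], false, 1, [181]),
  ([2, 2, 3, 4, 4, 3, 2, 1], [0, 0, 1, 0, 0, 0, 0, 0], true, 0, [203]),
  ([2, 2, 3, 4, 4, 3, 2, 1], [0, 1, 0, 0, 0, 0, 0, 0], true, 0, [146, 203]),
  ([2, 2, 3, 4, 4, 3, 2, 1], [0, 1, 1, 1, 1, 1, 1, 1], false, 0, [203])]

/-- the roots adjacent to `q1 1` and strongly orthogonal to `q1 0` -/
def NL : List (List ℤ) := [
  [0, 0, 0, -1, -1, -1, -1, -1],
  [0, 0, 1, 0, 0, 0, 0, 0],
  [0, 1, 0, 0, 0, 0, 0, 0],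
  [0, 1, 1, 1, 1, 1, 1, 1],
  [1, 1, 1, 1, 1, 0, 0, 0],
  [1, 1, 2, 2, 2, 1, 1, 1],
  [1, 1, 2, 2, 2, 2, 1, 0],
  [1, 2, 2, 3, 3, 3, 2, 1],
  [2, 2, 3, 4, 4, 3, 2, 1]]

/-- the test of the first table -/
def PA (x : List ℤ) (w : List ℕ) : Bool := (w.all fun d => decide (d < 240)) && decide (apR w x = a0L)

/-- the test of the second table -/
def PB (x : List ℤ) (w : List ℕ) : Bool :=
  decide (bL x a0L ≠ -1) || decide (bL x (JL a0L) ≠ 0) ||
    ((w.all fun d => decide (d < 240)) && (decide (apR w a0L = a0L) && decide (apR w x = c0L)))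

/-- the test of the third table -/
def PC (r : List ℤ × List ℤ × Bool × Fin 6 × List ℕ) : Bool :=
  (r.2.2.2.2.all fun d => decide (d < 240)) &&
    decide ([c0L, a0L, r.1, r.2.1].map (apR r.2.2.2.2) =
      (List.finRange 4).map fun i => (if r.2.2.1 then q2L else q1L).getD (pm r.2.2.2.1 i) [])

theorem chkA : (RL.zipIdx.all fun p => PA p.1 (tA.getD p.2 [])) = true := by decide +kernel

theorem chkB : (RL.zipIdx.all fun p => PB p.1 (tB.getD p.2 [])) = true := by decide +kernel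

theorem chkN : (RL.filter fun x => decide (bL x a0L = -1) && (decide (bL x (JL a0L) = 0) && (decide (bL x c0L = 0) &&
    decide (bL x (JL c0L) = 0)))) = NL := by decide +kernel

theorem chkC : (tC.all PC) = true := by decide +kernel

theorem chkD : (NL.all fun d => NL.all fun e => decide (bL d e ≠ 0) || (decide (bL d (JL e) ≠ 0) ||
    tC.any fun r => decide (r.1 = d) && decide (r.2.1 = e))) = true := by decide +kernel

/-! ### The three steps -/

theorem toL_q1 : ∀ i, toL (q1 i) = q1L.getD i [] := by decide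

theorem toL_q2 : ∀ i, toL (q2 i) = q2L.getD i [] := by decide

theorem bL_a0 (x : Fin 8 → ℤ) : bL (toL x) a0L = bf x (q1 1) := by rw [bf_eq, toL_q1]; rfl

theorem bL_c0 (x : Fin 8 → ℤ) : bL (toL x) c0L = bf x (q1 0) := by rw [bf_eq, toL_q1]; rfl

theorem bL_Ja0 (x : Fin 8 → ℤ) : bL (toL x) (JL a0L) = bf x (act w8 (q1 1)) := by rw [bf_eq, toL_w8, toL_q1]; rfl

theorem bL_Jc0 (x : Fin 8 → ℤ) : bL (toL x) (JL c0L) = bf x (act w8 (q1 0)) := by rw [bf_eq, toL_w8, toL_q1]; rfl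

theorem stepA {a : Fin 8 → ℤ} (ha : Rt a) : ∃ v ∈ RR, act v a = q1 1 := by
  obtain ⟨w, hw⟩ := tab_all chkA (toL a) ((rt_iff a).1 ha)
  unfold PA at hw
  rw [Bool.and_eq_true, decide_eq_true_eq] at hw
  obtain ⟨v, hv, h⟩ := exists_word hw.1
  refine ⟨v, hv, toL_inj ?_⟩
  rw [h, hw.2, toL_q1]
  rfl

theorem stepB {c : Fin 8 → ℤ} (hc : Rt c) (h1 : bf c (q1 1) = -1) (h2 : bf c (act w8 (q1 1)) = 0) :
    ∃ v ∈ RR, act v (q1 1) = q1 1 ∧ act v c = q1 0 := by
  obtain ⟨w, hw⟩ := tab_all chkB (toL c) ((rt_iff c).1 hc)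
  unfold PB at hw
  rw [bL_a0, bL_Ja0, Bool.or_eq_true, Bool.or_eq_true, decide_eq_true_eq, decide_eq_true_eq, Bool.and_eq_true,
    Bool.and_eq_true, decide_eq_true_eq, decide_eq_true_eq] at hw
  rcases hw with (hw | hw) | hw
  · exact absurd h1 hw
  · exact absurd h2 hw
  obtain ⟨v, hv, h⟩ := exists_word hw.1
  refine ⟨v, hv, toL_inj ?_, toL_inj ?_⟩
  · rw [h, toL_q1]
    exact hw.2.1
  · rw [h, hw.2.2, toL_q1]
    rfl

theorem mem_NL {x : Fin 8 → ℤ} (hx : Rt x) (h1 : bf x (q1 1) = -1) (h2 : bf x (act w8 (q1 1)) = 0)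
    (h3 : bf x (q1 0) = 0) (h4 : bf x (act w8 (q1 0)) = 0) : toL x ∈ NL := by
  rw [← chkN, List.mem_filter]
  refine ⟨(rt_iff x).1 hx, ?_⟩
  rw [bL_a0, bL_Ja0, bL_c0, bL_Jc0]
  simp [h1, h2, h3, h4]

/-- the system of the class `k` -/
def qq : Bool → Fin 4 → Fin 8 → ℤ
  | false => q1
  | true => q2

theorem toL_qq (k : Bool) (i : Fin 4) : toL (qq k i) = (if k then q2L else q1L).getD i [] := by
  cases k
  · exact toL_q1 i
  · exact toL_q2 i

theorem stepC {d e : Fin 8 → ℤ} (hd : toL d ∈ NL) (he : toL e ∈ NL) (h1 : bf d e = 0) (h2 : bf d (act w8 e) = 0) :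
    ∃ v ∈ RR, ∃ (k : Bool) (t : Fin 6), act v (q1 0) = qq k (pm t 0) ∧ act v (q1 1) = qq k (pm t 1) ∧
      act v d = qq k (pm t 2) ∧ act v e = qq k (pm t 3) := by
  have h := List.all_eq_true.1 (List.all_eq_true.1 chkD _ hd) _ he
  rw [← toL_w8, ← bf_eq, ← bf_eq, Bool.or_eq_true, Bool.or_eq_true, decide_eq_true_eq, decide_eq_true_eq] at h
  rcases h with h | h | h
  · exact absurd h1 h
  · exact absurd h2 h
  obtain ⟨r, hr, h⟩ := List.any_eq_true.1 h
  rw [Bool.and_eq_true, decide_eq_true_eq, decide_eq_true_eq] at h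
  have hP := List.all_eq_true.1 chkC r hr
  unfold PC at hP
  rw [Bool.and_eq_true, decide_eq_true_eq, h.1, h.2] at hP
  obtain ⟨v, hv, hw⟩ := exists_word hP.1
  have hm := hP.2
  have hm0 := congrArg (fun l => l.getD 0 []) hm
  have hm1 := congrArg (fun l => l.getD 1 []) hm
  have hm2 := congrArg (fun l => l.getD 2 []) hm
  have hm3 := congrArg (fun l => l.getD 3 []) hm
  refine ⟨v, hv, r.2.2.1, r.2.2.2.1, toL_inj ?_, toL_inj ?_, toL_inj ?_, toL_inj ?_⟩
  · rw [hw, toL_qq, toL_q1]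
    exact hm0
  · rw [hw, toL_qq, toL_q1]
    exact hm1
  · rw [hw, toL_qq]
    exact hm2
  · rw [hw, toL_qq]
    exact hm3

theorem Quad.act {b : Fin 4 → Fin 8 → ℤ} (hb : Quad b) {v : W8} (hv : v ∈ CW) : Quad fun i => act v (b i) where
  root i := rt_act v (hb.root i)
  ad i j hij := by rw [bf_act]; exact hb.ad i j hij
  orth i j := by rw [← mem_CW.1 hv, bf_act]; exact hb.orth i j

/-- **C1, on quadruples**: every `Quad` is conjugate to `q1` or to `q2` up to a permutation of the ends. -/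
theorem exists_conj {b : Fin 4 → Fin 8 → ℤ} (hb : Quad b) :
    ∃ v ∈ RR, ∃ (k : Bool) (t : Fin 6), ∀ i, Cfsg.Agent.H865.EE.act v (b i) = qq k (pm t i) := by
  obtain ⟨v1, hv1, e1⟩ := stepA (hb.root 1)
  have hb1 := Quad.act hb (RR_le hv1)
  have a1 := hb1.ad 0 1 (by decide)
  have o1 := hb1.orth 0 1
  simp only [e1] at a1 o1
  rw [if_pos (by decide)] at a1
  obtain ⟨v2, hv2, e2, e2'⟩ := stepB (hb1.root 0) a1 o1
  have hb2 := Quad.act hb1 (RR_le hv2)
  have f1 : Cfsg.Agent.H865.EE.act v2 (Cfsg.Agent.H865.EE.act v1 (b 1)) = q1 1 := by rw [e1, e2]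
  have key : ∀ i, i = 2 ∨ i = 3 → toL (Cfsg.Agent.H865.EE.act v2 (Cfsg.Agent.H865.EE.act v1 (b i))) ∈ NL := by
    intro i hi
    have h10 := hb2.ad i 1 (by rcases hi with rfl | rfl <;> decide)
    have h00 := hb2.ad i 0 (by rcases hi with rfl | rfl <;> decide)
    have h11 := hb2.orth i 1
    have h01 := hb2.orth i 0
    rw [if_pos (by rcases hi with rfl | rfl <;> decide)] at h10
    rw [if_neg (by rcases hi with rfl | rfl <;> decide)] at h00
    simp only [f1, e2'] at h10 h00 h11 h01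
    exact mem_NL (hb2.root i) h10 h11 h00 h01
  have h23 := hb2.ad 2 3 (by decide)
  rw [if_neg (by decide)] at h23
  obtain ⟨v3, hv3, k, t, g0, g1, g2, g3⟩ := stepC (key 2 (Or.inl rfl)) (key 3 (Or.inr rfl)) h23 (hb2.orth 2 3)
  refine ⟨v3 * v2 * v1, mul_mem (mul_mem hv3 hv2) hv1, k, t, fun i => ?_⟩
  rw [act_mul, act_mul]
  match i with
  | 0 => rw [e2', g0]
  | 1 => rw [f1, g1]
  | 2 => exact g2
  | 3 => exact g3

/-! ### The sets `SS b` -/

theorem mem_Ph_perm {b c : Fin 4 → Fin 8 → ℤ} {f : Fin 4 → Fin 4} (hf : Function.Bijective f) (h : ∀ i, b i = c (f i)) :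
    Ph b = Ph c := by
  let π := Equiv.ofBijective f hf
  ext a
  constructor
  · rintro ⟨ha, x, hx⟩
    refine ⟨ha, fun i => x (π.symm i), ?_⟩
    rw [hx]
    refine Eq.trans ?_ (Equiv.sum_comp π _)
    refine Finset.sum_congr rfl fun i _ => ?_
    show x i • b i = x (π.symm (π i)) • c (π i)
    rw [Equiv.symm_apply_apply, h]
    rfl
  · rintro ⟨ha, x, hx⟩
    refine ⟨ha, fun i => x (π i), ?_⟩
    rw [hx]
    refine (Equiv.sum_comp π _).symm.trans ?_
    refine Finset.sum_congr rfl fun i _ => ?_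
    rw [h]
    rfl

theorem SS_perm {b c : Fin 4 → Fin 8 → ℤ} {f : Fin 4 → Fin 4} (hf : Function.Bijective f) (h : ∀ i, b i = c (f i)) :
    SS b = SS c := by
  unfold SS
  rw [mem_Ph_perm hf h]

theorem mem_Ph_act {b : Fin 4 → Fin 8 → ℤ} (v : W8) (a : Fin 8 → ℤ) :
    Cfsg.Agent.H865.EE.act v a ∈ Ph (fun i => Cfsg.Agent.H865.EE.act v (b i)) ↔ a ∈ Ph b := by
  have hinj : ∀ x y : Fin 8 → ℤ, Cfsg.Agent.H865.EE.act v x = Cfsg.Agent.H865.EE.act v y → x = y := fun x y h => by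
    have := congrArg (Cfsg.Agent.H865.EE.act v⁻¹) h
    rwa [← act_mul, ← act_mul, inv_mul_cancel, act_one, act_one] at this
  constructor
  · rintro ⟨ha, x, hx⟩
    refine ⟨?_, x, hinj _ _ ?_⟩
    · have := rt_act v⁻¹ ha
      rwa [← act_mul, inv_mul_cancel, act_one] at this
    · rw [hx, map_sum]
      exact Finset.sum_congr rfl fun i _ => (map_smul _ _ _).symm
  · rintro ⟨ha, x, hx⟩
    refine ⟨rt_act v ha, x, ?_⟩
    rw [hx, map_sum]
    exact Finset.sum_congr rfl fun i _ => map_smul _ _ _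

theorem act_inv_act (v : W8) (x : Fin 8 → ℤ) : Cfsg.Agent.H865.EE.act v (Cfsg.Agent.H865.EE.act v⁻¹ x) = x := by
  rw [← act_mul, mul_inv_cancel, act_one]

theorem mem_SS {b : Fin 4 → Fin 8 → ℤ} {a : Fin 8 → ℤ} :
    a ∈ SS b ↔ a ∈ Ph b ∨ ∃ a' ∈ Ph b, a = Cfsg.Agent.H865.EE.act w8 a' := Iff.rfl

theorem image_SS {b : Fin 4 → Fin 8 → ℤ} {v : W8} (hv : v ∈ CW) :
    Cfsg.Agent.H865.EE.act v '' SS b = SS fun i => Cfsg.Agent.H865.EE.act v (b i) := by
  ext a
  rw [mem_SS]
  constructor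
  · rintro ⟨x, hx, rfl⟩
    rw [mem_SS] at hx
    rcases hx with hx | ⟨y, hy, hxy⟩
    · exact Or.inl ((mem_Ph_act v x).2 hx)
    · exact Or.inr ⟨Cfsg.Agent.H865.EE.act v y, (mem_Ph_act v y).2 hy, by rw [hxy]; exact mem_CW.1 hv y⟩
  · rintro (h | ⟨y, hy, hay⟩)
    · refine ⟨Cfsg.Agent.H865.EE.act v⁻¹ a, mem_SS.2 (Or.inl ?_), act_inv_act v a⟩
      rw [← mem_Ph_act v, act_inv_act]
      exact h
    · refine ⟨Cfsg.Agent.H865.EE.act w8 (Cfsg.Agent.H865.EE.act v⁻¹ y), mem_SS.2 (Or.inr ⟨_, ?_, rfl⟩), ?_⟩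
      · rw [← mem_Ph_act v, act_inv_act]
        exact hy
      · rw [mem_CW.1 hv, act_inv_act, hay]

/-- **C1.** -/
theorem exists_conj_SS {b : Fin 4 → Fin 8 → ℤ} (hb : Quad b) :
    ∃ v ∈ RR, Cfsg.Agent.H865.EE.act v '' SS b = SS q1 ∨ Cfsg.Agent.H865.EE.act v '' SS b = SS q2 := by
  obtain ⟨v, hv, k, t, h⟩ := exists_conj hb
  refine ⟨v, hv, ?_⟩
  rw [image_SS (RR_le hv), SS_perm (pm_bij t) h]
  cases k
  · exact Or.inl rfl
  · exact Or.inr rfl

end Cfsg.Agent.H136.EE
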