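import Cfsg.Agent.H136.EE.Stab

/-!
# The index of `RB q` in the stabiliser of `SS q` (helper136, S3384, piece C3)
-/

set_option autoImplicit false
set_option linter.unusedSectionVars false

namespace Cfsg.Agent.H136.EE

open CoxeterSystem Subgroup Cfsg Cfsg.Lie Cfsg.Lie.ChevalleyDatum
open Cfsg.Agent.ChevalleyStructure Cfsg.Agent.ChevalleyStructure.Elts Cfsg.Agent.ChevalleyStructure.CoxeterGeom
  Cfsg.Agent.ChevalleyStructure.CoxeterGeomTypes Cfsg.Agent.ChevalleyStructure.NPerm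
open Cfsg.Agent.Tits.Roots Cfsg.Agent.Tits.Core Cfsg.Agent.Nodes Cfsg.Agent.Nodes.SubComb Cfsg.Agent.Nodes.Reps Cfsg.Agent.Nodes.BNOf
  Cfsg.Agent.Nodes.RGDChev Cfsg.Agent.Nodes.Bruhat Cfsg.Agent.Nodes.Coroot
open Cfsg.Agent.H865.EE

/-- the stabiliser of `SS b` -/
noncomputable def SB (b : Fin 4 → Fin 8 → ℤ) : Subgroup W8 where
  carrier := {v | v ∈ CW ∧ ∀ x, x ∈ SS b ↔ act v x ∈ SS b}
  one_mem' := ⟨one_mem _, fun x => by rw [act_one]⟩
  mul_mem' := fun {u v} hu hv => ⟨mul_mem hu.1 hv.1, fun x => by rw [act_mul, ← hu.2, ← hv.2]⟩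
  inv_mem' := fun {v} hv => ⟨inv_mem hv.1, fun x => by
    rw [hv.2 (act v⁻¹ x), show act v (act v⁻¹ x) = x from rep_apply_inv _ _ _ _]⟩

theorem mem_SB {b : Fin 4 → Fin 8 → ℤ} {v : W8} : v ∈ SB b ↔ v ∈ CW ∧ ∀ x, x ∈ SS b ↔ act v x ∈ SS b := Iff.rfl

theorem w8_mem_CW : w8 ∈ CW := mem_CW.2 fun _ => rfl

theorem CW_comm {v : W8} (hv : v ∈ CW) : v * w8 = w8 * v := Subgroup.mem_centralizer_singleton_iff.1 hv

theorem rr_rr {d : Fin 8 → ℤ} (hd : Rt d) (x : Fin 8 → ℤ) : act (rr d) (act (rr d) x) = x := by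
  have e1 : bf (act w8 d) d = 0 := by rw [bf_comm, bf_w8_self]
  rw [act_rr hd (act (rr d) x), act_rr hd x, bf_sub_left, bf_sub_left, bf_smul_left, bf_smul_left, bf_sub_left,
    bf_sub_left, bf_smul_left, bf_smul_left, bf_self hd, e1, bf_w8_self, bf_self (rt_act w8 hd)]
  module

section
variable {b : Fin 4 → Fin 8 → ℤ} (hb : Quad b)
include hb

theorem rr_Ph (i : Fin 4) {a : Fin 8 → ℤ} (ha : a ∈ Ph b) : act (rr (b i)) a ∈ Ph b := by
  obtain ⟨x, hx, rfl⟩ := exists_coord ha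
  refine ⟨rt_act _ ha.1, ?_⟩
  rw [act_rr_lc hb i hx]
  have hl := length_s4 i hx
  generalize s4 i x = y at hl
  obtain ⟨y0, y1, y2, y3, rfl⟩ := four_of_length hl
  refine ⟨![y0, y1, y2, y3], ?_⟩
  rw [lc_cons, Fin.sum_univ_four]
  rfl

theorem rb_Ph {u : W8} (hu : u ∈ RB b) (a : Fin 8 → ℤ) : act u a ∈ Ph b ↔ a ∈ Ph b := by
  rw [RB] at hu
  induction hu using Subgroup.closure_induction generalizing a with
  | mem u hu =>
    obtain ⟨i, rfl⟩ := hu
    refine ⟨fun h => ?_, rr_Ph hb i⟩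
    have := rr_Ph hb i h
    rwa [rr_rr (hb.root i)] at this
  | one => rw [act_one]
  | mul u v _ _ hu hv => rw [act_mul, hu, hv]
  | inv u _ hu => rw [← hu (act u⁻¹ a), act_inv_act]

theorem bf_Ph_w8 {a a' : Fin 8 → ℤ} (ha : a ∈ Ph b) (ha' : a' ∈ Ph b) : bf a (act w8 a') = 0 := by
  obtain ⟨x, hx, rfl⟩ := exists_coord ha
  obtain ⟨y, hy, rfl⟩ := exists_coord ha'
  obtain ⟨y0, y1, y2, y3, rfl⟩ := four_of_length hy
  rw [lc_cons, map_add, map_add, map_add, map_smul, map_smul, map_smul, map_smul, bf_add_right, bf_add_right,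
    bf_add_right, bf_smul_right, bf_smul_right, bf_smul_right, bf_smul_right, bf_lc_w8 hb hx, bf_lc_w8 hb hx,
    bf_lc_w8 hb hx, bf_lc_w8 hb hx]
  simp

theorem RB_le_SB : RB b ≤ SB b := by
  intro u hu
  have hc := RB_le hb hu
  refine ⟨hc, fun x => ?_⟩
  rw [mem_SS, mem_SS, rb_Ph hb hu]
  refine or_congr Iff.rfl ⟨?_, ?_⟩
  · rintro ⟨y, hy, h⟩
    exact ⟨act u y, (rb_Ph hb hu y).2 hy, by rw [h, mem_CW.1 hc]⟩
  · rintro ⟨y, hy, h⟩
    refine ⟨act u⁻¹ y, (rb_Ph hb (inv_mem hu) y).2 hy, ?_⟩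
    rw [← mem_CW.1 (inv_mem hc), ← h, ← act_mul, inv_mul_cancel, act_one]

theorem w8_mem_SB : w8 ∈ SB b := by
  have key : ∀ x, x ∈ SS b → act w8 x ∈ SS b := by
    intro x hx
    rcases mem_SS.1 hx with h | ⟨y, hy, h⟩
    · exact mem_SS.2 (Or.inr ⟨x, h, rfl⟩)
    · refine mem_SS.2 (Or.inl ?_)
      rw [h, w8_sq]
      obtain ⟨hy1, c, hc⟩ := hy
      refine ⟨?_, fun i => - c i, ?_⟩
      · have := rt_act w8 (rt_act w8 hy1)
        rwa [w8_sq] at this
      · rw [hc, ← Finset.sum_neg_distrib]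
        exact Finset.sum_congr rfl fun i _ => (neg_smul _ _).symm
  refine ⟨w8_mem_CW, fun x => ⟨key x, fun h => ?_⟩⟩
  have h1 := key _ (key _ (key _ h))
  rwa [w8_sq, w8_sq, neg_neg] at h1

/-- an element of `SB b` is, up to `w8`, in `RB b` times a permutation of the ends -/
theorem exists_dec {v : W8} (hv : v ∈ SB b) : ∃ (e : Bool) (u : W8) (t : Fin 6), u ∈ RB b ∧
    ∀ i, act (u * ((if e then w8 else 1) * v)) (b i) = b (pm t i) := by
  -- a first version
  have key : ∀ v ∈ SB b, act v (b 1) ∈ Ph b → ∃ (u : W8) (t : Fin 6), u ∈ RB b ∧ ∀ i, act (u * v) (b i) = b (pm t i) := by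
    intro v hv h1
    have hall : ∀ i, act v (b i) ∈ Ph b := by
      intro i
      have h2 : act v (b i) ∈ SS b := (hv.2 _).1 (mem_SS.2 (Or.inl (mem_Ph_self hb.root i)))
      rcases mem_SS.1 h2 with h | ⟨y, hy, h⟩
      · exact h
      · exfalso
        have h3 := bf_Ph_w8 hb h1 hy
        rw [← h, bf_act] at h3
        rw [gram hb] at h3
        have h4 : ∀ i : Fin 4, GM 1 i ≠ 0 := by decide
        exact h4 i h3
    obtain ⟨u, hu, t, ht⟩ := exists_rb hb hall fun i j => by rw [bf_act, gram hb]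
    exact ⟨u, t, hu, fun i => by rw [act_mul, ht]⟩
  have h2 : act v (b 1) ∈ SS b := (hv.2 _).1 (mem_SS.2 (Or.inl (mem_Ph_self hb.root 1)))
  rcases mem_SS.1 h2 with h | ⟨y, hy, h⟩
  · obtain ⟨u, t, hu, ht⟩ := key v hv h
    exact ⟨false, u, t, hu, fun i => by rw [← ht i]; simp⟩
  · obtain ⟨u, t, hu, ht⟩ := key (w8 * v) (mul_mem (w8_mem_SB hb) hv) (by
      rw [act_mul, h, w8_sq]
      obtain ⟨hy1, c, hc⟩ := hy
      refine ⟨?_, fun i => - c i, ?_⟩
      · have := rt_act w8 (rt_act w8 hy1)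
        rwa [w8_sq] at this
      · rw [hc, ← Finset.sum_neg_distrib]
        exact Finset.sum_congr rfl fun i _ => (neg_smul _ _).symm)
    exact ⟨true, u, t, hu, fun i => by rw [← ht i]; simp⟩

end

/-! ### Elements of `CW` are determined by the images of `qq k` -/

/-- `2 e_j` in terms of `qq k i` -/
def T1 : Bool → Fin 8 → Fin 4 → ℤ
  | false => ![![-1, -2, -1, -2], ![0, 0, 1, 1], ![0, 0, 1, 1], ![0, 2, 0, 0], ![0, -2, -1, -1], ![0, 0, 0, 0],
    ![0, 0, 0, 0], ![0, 0, -1, 1]]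
  | true => ![![0, 0, 0, 0], ![-1, -2, 0, -1], ![0, 0, 1, 1], ![0, 2, 0, 0], ![1, 0, 0, 1], ![-1, -2, -1, -2],
    ![0, 0, 0, 0], ![0, 0, -1, 1]]

/-- `2 e_j` in terms of `w8 (qq k i)` -/
def T2 : Bool → Fin 8 → Fin 4 → ℤ
  | false => ![![1, 2, 1, 0], ![0, 0, 1, -1], ![0, 0, -1, 1], ![0, 0, 0, 0], ![0, 0, 1, 1], ![-2, -2, -2, -2],
    ![2, 0, 0, 0], ![0, 2, 1, 1]]
  | true => ![![2, 4, 2, 2], ![0, 0, 1, -1], ![-1, -2, -2, -1], ![0, 0, 0, 0], ![0, 0, 1, 1], ![-1, 0, -1, 0],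
    ![2, 0, 0, 0], ![-1, 0, 0, -1]]

theorem chkT : ∀ (k : Bool) (j m : Fin 8), (if m = j then (2 : ℤ) else 0) = cmb k 0 (T1 k j) (T2 k j) m := by
  decide +kernel

theorem pm_zero (i : Fin 4) : pm 0 i = i := by revert i; decide

theorem two_sr (k : Bool) (j : Fin 8) : (2 : ℤ) • (sr j : Fin 8 → ℤ) =
    ∑ i, T1 k j i • qq k i + ∑ i, T2 k j i • act w8 (qq k i) := by
  have h := cmb_eq k 0 (T1 k j) (T2 k j)
  simp only [pm_zero] at h
  rw [h]
  funext m
  rw [← chkT, Pi.smul_apply, sr_apply, smul_eq_mul]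
  split_ifs <;> rfl

theorem two_act_sr (k : Bool) (j : Fin 8) {t : Fin 6} {g : W8} (hg : g ∈ CW) (h : ∀ i, act g (qq k i) = qq k (pm t i)) :
    (2 : ℤ) • act g (sr j) = cmb k t (T1 k j) (T2 k j) := by
  rw [← map_smul, two_sr k j, map_add, map_sum, map_sum, ← cmb_eq]
  simp only [map_smul, mem_CW.1 hg, h]

theorem cw_ext {k : Bool} {g h : W8} (hg : g ∈ CW) (hh : h ∈ CW) (e : ∀ i, act g (qq k i) = act h (qq k i)) :
    g = h := by
  refine act_ext fun x => ?_
  rw [eq_sum_sr x, map_sum, map_sum]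
  refine Finset.sum_congr rfl fun j _ => ?_
  rw [map_smul, map_smul]
  congr 1
  have h2 : (2 : ℤ) • act g (sr j) = (2 : ℤ) • act h (sr j) := by
    rw [← map_smul, ← map_smul, two_sr k j, map_add, map_sum, map_sum, map_add, map_sum, map_sum]
    simp only [map_smul, mem_CW.1 hg, mem_CW.1 hh, e]
  funext m
  have h3 := congrFun h2 m
  simp only [Pi.smul_apply, smul_eq_mul] at h3
  omega

/-! ### The allowed permutations -/

/-- the permutations of the ends which extend -/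
def al : Bool → Fin 6 → Bool
  | false, _ => true
  | true, t => decide (t = 0) || decide (t = 2)

/-- words for the permutations of the ends -/
def sw : Bool → Fin 6 → List ℕ
  | false => ![[], [146], [204], [220, 146], [220, 204], [220]]
  | true => ![[], [], [204], [], [], []]

theorem chkS : ∀ (k : Bool) (t : Fin 6), al k t = true → (((sw k t).all fun d => decide (d < 240)) = true ∧
    ∀ i : Fin 4, apR (sw k t) ((qL k).getD i []) = (qL k).getD (pm t i) []) := by decide +kernel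

theorem exists_s {k : Bool} {t : Fin 6} (h : al k t = true) : ∃ v ∈ RR, ∀ i, act v (qq k i) = qq k (pm t i) := by
  obtain ⟨h1, h2⟩ := chkS k t h
  obtain ⟨v, hv, hw⟩ := exists_word h1
  exact ⟨v, hv, fun i => toL_inj (by rw [hw, toL_qq, toL_qq, h2])⟩

theorem chkP : ∀ t : Fin 6, al true t = false → ∃ j m : Fin 8, cmb true t (T1 true j) (T2 true j) m % 2 = 1 := by
  decide +kernel

theorem al_of {k : Bool} {t : Fin 6} {g : W8} (hg : g ∈ CW) (h : ∀ i, act g (qq k i) = qq k (pm t i)) :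
    al k t = true := by
  cases k
  · rfl
  · by_contra hc
    obtain ⟨j, m, hm⟩ := chkP t (by simpa using hc)
    rw [← two_act_sr true j hg h, Pi.smul_apply, smul_eq_mul] at hm
    omega

/-! ### `qq k` is a system -/

theorem chkQ : ∀ (k : Bool) (i j : Fin 4), (i ≠ j → bL ((qL k).getD i []) ((qL k).getD j []) = if Adj i j then -1 else 0) ∧
    bL ((qL k).getD i []) (JL ((qL k).getD j [])) = 0 := by decide +kernel

theorem quad_qq (k : Bool) : Quad (qq k) where
  root := rt_qq k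
  ad i j h := by rw [bf_eq, toL_qq, toL_qq]; exact (chkQ k i j).1 h
  orth i j := by rw [bf_eq, toL_w8, toL_qq, toL_qq]; exact (chkQ k i j).2

theorem quad_q1 : Quad q1 := quad_qq false

theorem quad_q2 : Quad q2 := quad_qq true

/-! ### The cosets -/

theorem act_inj {v : W8} {x y : Fin 8 → ℤ} (h : act v x = act v y) : x = y := by
  have h1 := congrArg (act v⁻¹) h
  rwa [← act_mul, ← act_mul, inv_mul_cancel, act_one, act_one] at h1

theorem mem_SB_of {b : Fin 4 → Fin 8 → ℤ} {v : W8} (hv : v ∈ CW) {t : Fin 6} (h : ∀ i, act v (b i) = b (pm t i)) :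
    v ∈ SB b := by
  have h1 : act v '' SS b = SS b := by rw [image_SS hv, SS_perm (pm_bij t) h]
  refine ⟨hv, fun x => ⟨fun hx => h1 ▸ ⟨x, hx, rfl⟩, fun hx => ?_⟩⟩
  rw [← h1] at hx
  obtain ⟨y, hy, hxy⟩ := hx
  rwa [← act_inj hxy]

/-- the index set -/
abbrev Ix (k : Bool) : Type := {p : Bool × Fin 6 // al k p.2 = true}

theorem card_Ix_false : Nat.card (Ix false) = 12 := by
  rw [Nat.card_eq_fintype_card]
  decide

theorem card_Ix_true : Nat.card (Ix true) = 4 := by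
  rw [Nat.card_eq_fintype_card]
  decide

/-- `w8` or `1` -/
noncomputable def ee (e : Bool) : W8 := if e then w8 else 1

theorem ee_true : ee true = w8 := if_pos rfl

theorem ee_false : ee false = 1 := if_neg Bool.false_ne_true

theorem ee_mem (e : Bool) : ee e ∈ CW := by
  cases e
  · rw [ee_false]
    exact one_mem _
  · rw [ee_true]
    exact w8_mem_CW

theorem ee_comm {v : W8} (hv : v ∈ CW) (e : Bool) : v * ee e = ee e * v := by
  cases e
  · rw [ee_false, mul_one, one_mul]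
  · rw [ee_true]
    exact CW_comm hv

theorem ee_mem_SB (k : Bool) (e : Bool) : ee e ∈ SB (qq k) := by
  cases e
  · rw [ee_false]
    exact one_mem _
  · rw [ee_true]
    exact w8_mem_SB (quad_qq k)

/-- the elements realising the permutations of the ends -/
noncomputable def ss (k : Bool) (t : {t : Fin 6 // al k t = true}) : W8 := (exists_s t.2).choose

theorem ss_mem (k : Bool) (t : {t : Fin 6 // al k t = true}) : ss k t ∈ CW := RR_le (exists_s t.2).choose_spec.1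

theorem act_ss (k : Bool) (t : {t : Fin 6 // al k t = true}) (i : Fin 4) : act (ss k t) (qq k i) = qq k (pm t.1 i) :=
  (exists_s t.2).choose_spec.2 i

/-- the representatives -/
noncomputable def rep8 (k : Bool) (p : Ix k) : W8 := (ss k ⟨p.1.2, p.2⟩)⁻¹ * ee p.1.1

theorem rep8_mem (k : Bool) (p : Ix k) : rep8 k p ∈ SB (qq k) :=
  mul_mem (inv_mem (mem_SB_of (ss_mem k _) (act_ss k _))) (ee_mem_SB k _)

theorem exists_rep8 (k : Bool) {v : W8} (hv : v ∈ SB (qq k)) : ∃ p : Ix k, (rep8 k p)⁻¹ * v ∈ RB (qq k) := by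
  obtain ⟨e, u, t, hu, ht⟩ := exists_dec (quad_qq k) (inv_mem hv)
  have hu' := RB_le (quad_qq k) hu
  have hg : u * (ee e * v⁻¹) ∈ CW := mul_mem hu' (mul_mem (ee_mem e) (inv_mem hv.1))
  have ha : al k t = true := al_of hg ht
  have h1 : u * (ee e * v⁻¹) = ss k ⟨t, ha⟩ := cw_ext (k := k) hg (ss_mem k _) fun i => by rw [act_ss]; exact ht i
  refine ⟨⟨(e, t), ha⟩, ?_⟩
  have h2 : (rep8 k ⟨(e, t), ha⟩)⁻¹ * v = u := by
    show ((ss k ⟨t, ha⟩)⁻¹ * ee e)⁻¹ * v = u
    rw [← h1, mul_inv_rev, inv_inv]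
    have h3 := ee_comm hu' e
    calc (ee e)⁻¹ * (u * (ee e * v⁻¹)) * v = (ee e)⁻¹ * (u * ee e) := by group
      _ = u := by rw [h3]; group
  rwa [h2]

/-- elements of `RB` act trivially modulo the lattice of the system -/
theorem rb_even (k : Bool) (a : Fin 2) {u : W8} (hu : u ∈ RB (qq k)) (x : Fin 8 → ℤ) :
    2 ∣ lf (ff k a) (act u x) - lf (ff k a) x := by
  rw [RB] at hu
  induction hu using Subgroup.closure_induction generalizing x with
  | mem u hu =>
    obtain ⟨i, rfl⟩ := hu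
    have h1 := ff_even k a (mem_Mb (rt_qq k) i)
    have h2 := ff_even k a (w8_mem_Mb (rt_qq k) i)
    rw [act_rr (rt_qq k i), map_sub, map_sub, map_smul, map_smul, smul_eq_mul, smul_eq_mul]
    have h3 := h1.mul_left (bf x (qq k i))
    have h4 := h2.mul_left (bf x (act w8 (qq k i)))
    omega
  | one => rw [act_one, sub_self]; exact dvd_zero _
  | mul u v _ _ hu hv =>
    rw [act_mul]
    have h1 := hu (act v x)
    have h2 := hv x
    omega
  | inv u _ hu =>
    have h1 := hu (act u⁻¹ x)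
    rw [act_inv_act] at h1
    omega

theorem chkR : ∀ (k : Bool) (t t' : Fin 6), al k t = true → al k t' = true → t ≠ t' → ∃ (a : Fin 2) (j : Fin 8),
    (∑ m, ff k a m * cmb k t (T1 k j) (T2 k j) m - ∑ m, ff k a m * cmb k t' (T1 k j) (T2 k j) m) % 4 ≠ 0 := by
  decide +kernel

theorem rep8_inj (k : Bool) {p p' : Ix k} (h : (rep8 k p)⁻¹ * rep8 k p' ∈ RB (qq k)) : p = p' := by
  obtain ⟨⟨e, t⟩, ht⟩ := p
  obtain ⟨⟨e', t'⟩, ht'⟩ := p'
  simp only at ht ht'
  set s := ss k ⟨t, ht⟩ with hs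
  set s' := ss k ⟨t', ht'⟩ with hs'
  have hsm : s ∈ CW := ss_mem k _
  have hsm' : s' ∈ CW := ss_mem k _
  have hss : s * s'⁻¹ ∈ CW := mul_mem hsm (inv_mem hsm')
  have h0 : (rep8 k ⟨(e, t), ht⟩)⁻¹ * rep8 k ⟨(e', t'), ht'⟩ = (ee e)⁻¹ * ((s * s'⁻¹) * ee e') := by
    show ((s⁻¹ * ee e)⁻¹) * (s'⁻¹ * ee e') = _
    group
  rw [h0] at h
  have hact : ∀ i, act (s * s'⁻¹) (qq k (pm t' i)) = qq k (pm t i) := by
    intro i
    rw [act_mul, ← act_ss k ⟨t', ht'⟩ i, ← hs', ← act_mul s'⁻¹ s', inv_mul_cancel, act_one, hs, act_ss]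
  have hmem : ∀ v : W8, v ∈ RB (qq k) → act v (qq k 1) ∈ Ph (qq k) := fun v hv =>
    (rb_Ph (quad_qq k) hv _).2 (mem_Ph_self (rt_qq k) 1)
  have h1 : act (s * s'⁻¹) (qq k 1) = qq k 1 := by
    have := hact 1
    rwa [pm_one, pm_one] at this
  have hee : e = e' := by
    by_contra hne
    have h2 := hmem _ h
    rw [ee_comm hss, act_mul, act_mul, h1] at h2
    have h3 : ∃ x : Fin 8 → ℤ, (act w8 x = qq k 1 ∨ x = act w8 (qq k 1)) ∧ x ∈ Ph (qq k) := by
      refine ⟨_, ?_, h2⟩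
      cases e <;> cases e'
      · exact absurd rfl hne
      · right
        rw [ee_false, ee_true, inv_one, act_one]
      · left
        rw [ee_false, ee_true, act_inv_act, act_one]
      · exact absurd rfl hne
    obtain ⟨x, hx, hxP⟩ := h3
    have hq : qq k 1 ∈ Ph (qq k) := mem_Ph_self (rt_qq k) 1
    rcases hx with hx | hx
    · have h4 := bf_Ph_w8 (quad_qq k) hq hxP
      rw [hx, bf_self (rt_qq k 1)] at h4
      omega
    · have h4 := bf_Ph_w8 (quad_qq k) hxP hq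
      rw [hx, bf_act, bf_self (rt_qq k 1)] at h4
      omega
  subst hee
  rw [ee_comm hss, inv_mul_cancel_left] at h
  have htt : t = t' := by
    by_contra hne
    obtain ⟨a, j, haj⟩ := chkR k t t' ht ht' hne
    apply haj
    have e1 := two_act_sr k j hsm (act_ss k ⟨t, ht⟩)
    have e2 := two_act_sr k j hsm' (act_ss k ⟨t', ht'⟩)
    rw [← lf_apply, ← lf_apply, ← e1, ← e2, map_smul, map_smul, smul_eq_mul, smul_eq_mul]
    have h5 := rb_even k a h (act s' (sr j))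
    rw [← act_mul, inv_mul_cancel_right] at h5
    omega
  subst htt
  rfl

/-- **C3.** -/
theorem relIndex_eq (k : Bool) : (RB (qq k)).relIndex (SB (qq k)) = Nat.card (Ix k) := by
  let f : Ix k → ↥(SB (qq k)) ⧸ (RB (qq k)).subgroupOf (SB (qq k)) := fun p =>
    QuotientGroup.mk ⟨rep8 k p, rep8_mem k p⟩
  have hf : Function.Bijective f := by
    constructor
    · intro p p' h
      have h1 := QuotientGroup.eq.1 h
      rw [Subgroup.mem_subgroupOf] at h1
      exact rep8_inj k h1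
    · intro x
      induction x using QuotientGroup.induction_on with
      | H v =>
        obtain ⟨p, hp⟩ := exists_rep8 k v.2
        refine ⟨p, QuotientGroup.eq.2 ?_⟩
        rw [Subgroup.mem_subgroupOf]
        exact hp
  rw [Subgroup.relIndex, Subgroup.index, Nat.card_eq_of_bijective f hf]

theorem combi3a : (Subgroup.closure (Set.range fun i => rr (q1 i))).relIndex (SB q1) = 12 :=
  (relIndex_eq false).trans card_Ix_false

theorem combi3b : (Subgroup.closure (Set.range fun i => rr (q2 i))).relIndex (SB q2) = 4 :=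
  (relIndex_eq true).trans card_Ix_true

/-! ### The forms of the plan -/

theorem combi {b : Fin 4 → Fin 8 → ℤ} (hb : Quad b) : ∃ v ∈ CW,
    (∀ x, x ∈ SS b ↔ act v x ∈ SS q1) ∨ (∀ x, x ∈ SS b ↔ act v x ∈ SS q2) := by
  obtain ⟨v, hv, h⟩ := exists_conj_SS hb
  have key : ∀ S : Set (Fin 8 → ℤ), act v '' SS b = S → ∀ x, x ∈ SS b ↔ act v x ∈ S := by
    rintro _ rfl x
    refine ⟨fun hx => ⟨x, hx, rfl⟩, ?_⟩
    rintro ⟨y, hy, hxy⟩
    rwa [← act_inj hxy]
  exact ⟨v, RR_le hv, h.imp (key _) (key _)⟩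

theorem combi2 : ¬ ∃ v ∈ CW, ∀ x, x ∈ SS q1 ↔ act v x ∈ SS q2 := by
  rintro ⟨v, hv, h⟩
  refine not_conj ⟨v, hv, ?_⟩
  ext x
  constructor
  · rintro ⟨y, hy, rfl⟩
    exact (h y).1 hy
  · intro hx
    exact ⟨act v⁻¹ x, (h _).2 (by rwa [act_inv_act]), act_inv_act v x⟩

end Cfsg.Agent.H136.EE
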