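import Cfsg.Agent.H136.EE.Conj

/-!
# The two classes of `D₄`-systems are not conjugate (helper136, S3384, piece C2)

For `q1` all `x + w8 x` lie in the lattice spanned by `SS q1`; for `q2` this is false.
-/

set_option autoImplicit false
set_option linter.unusedSectionVars false

namespace Cfsg.Agent.H136.EE

open CoxeterSystem Subgroup Cfsg Cfsg.Lie Cfsg.Lie.ChevalleyDatum
open Cfsg.Agent.ChevalleyStructure Cfsg.Agent.ChevalleyStructure.Elts Cfsg.Agent.ChevalleyStructure.CoxeterGeom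
  Cfsg.Agent.ChevalleyStructure.CoxeterGeomTypes Cfsg.Agent.ChevalleyStructure.NPerm
open Cfsg.Agent.Tits.Roots Cfsg.Agent.Tits.Core Cfsg.Agent.Nodes Cfsg.Agent.Nodes.SubComb Cfsg.Agent.Nodes.Reps Cfsg.Agent.Nodes.BNOf
  Cfsg.Agent.Nodes.RGDChev Cfsg.Agent.Nodes.Bruhat Cfsg.Agent.Nodes.Coroot
open Cfsg.Agent.H865.EE

/-- the lists of the system `k` -/
abbrev qL (k : Bool) : List (List ℤ) := if k then q2L else q1L

/-- `c 0 q 0 + … + c 3 q 3 + d 0 w8 (q 0) + … + d 3 w8 (q 3)` for the system `k`, coordinate `m`, indices moved by `t` -/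
def cmb (k : Bool) (t : Fin 6) (c d : Fin 4 → ℤ) (m : Fin 8) : ℤ :=
  c 0 * ((qL k).getD (pm t 0) []).getD m 0 + c 1 * ((qL k).getD (pm t 1) []).getD m 0 +
    c 2 * ((qL k).getD (pm t 2) []).getD m 0 + c 3 * ((qL k).getD (pm t 3) []).getD m 0 +
    (d 0 * (JL ((qL k).getD (pm t 0) [])).getD m 0 + d 1 * (JL ((qL k).getD (pm t 1) [])).getD m 0 +
    d 2 * (JL ((qL k).getD (pm t 2) [])).getD m 0 + d 3 * (JL ((qL k).getD (pm t 3) [])).getD m 0)

theorem qq_apply (k : Bool) (i : Fin 4) (m : Fin 8) : qq k i m = ((qL k).getD i []).getD m 0 := by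
  rw [← toL_qq, getD_toL]

theorem w8_qq_apply (k : Bool) (i : Fin 4) (m : Fin 8) : act w8 (qq k i) m = (JL ((qL k).getD i [])).getD m 0 := by
  rw [← toL_qq, ← toL_w8, getD_toL]

theorem cmb_eq (k : Bool) (t : Fin 6) (c d : Fin 4 → ℤ) :
    ∑ i, c i • qq k (pm t i) + ∑ i, d i • act w8 (qq k (pm t i)) = cmb k t c d := by
  funext m
  simp only [Fin.sum_univ_four, Pi.add_apply, Pi.smul_apply, smul_eq_mul, qq_apply, w8_qq_apply, cmb]

/-- the vectors of the basis -/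
theorem sr_apply (j m : Fin 8) : (sr j : Fin 8 → ℤ) m = if m = j then 1 else 0 := by
  by_cases h : m = j
  · rw [h, sr_self, if_pos rfl]
  · rw [sr_ne h, if_neg h]

theorem eq_sum_sr (x : Fin 8 → ℤ) : x = ∑ j, x j • (sr j : Fin 8 → ℤ) := by
  funext i
  rw [Finset.sum_apply, Finset.sum_eq_single i (fun j _ hj => by
    rw [Pi.smul_apply, sr_ne hj.symm, smul_zero]) (fun h => absurd (Finset.mem_univ i) h), Pi.smul_apply, sr_self,
    smul_eq_mul, mul_one]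

/-- the coefficients of `x + w8 x` for the basis vectors, for `q1` -/
def U1 : Fin 8 → Fin 4 → ℤ := ![![-1, -2, -1, -1], ![0, 0, 0, 1], ![0, 0, 1, 0], ![0, 1, 0, 0], ![0, -1, -1, -1],
  ![1, 1, 1, 1], ![-1, 0, 0, 0], ![0, -1, -1, 0]]

/-- the coefficients of `x + w8 x` for the basis vectors, for `q1`, second part -/
def U2 : Fin 8 → Fin 4 → ℤ := ![![0, 0, 0, -1], ![0, 0, 1, 0], ![0, 0, 0, 1], ![0, 1, 0, 0], ![0, -1, 0, 0],
  ![-1, -1, -1, -1], ![1, 0, 0, 0], ![0, 1, 0, 1]]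

theorem chkU : ∀ j m : Fin 8, (if m = j then (1 : ℤ) else 0) + WM m j = cmb false 0 (U1 j) (U2 j) m := by decide +kernel

theorem sr_add_w8 (j : Fin 8) : (sr j : Fin 8 → ℤ) + act w8 (sr j) =
    ∑ i, U1 j i • q1 i + ∑ i, U2 j i • act w8 (q1 i) := by
  have h := cmb_eq false 0 (U1 j) (U2 j)
  have e : ∀ i, qq false (pm 0 i) = q1 i := by decide
  simp only [e] at h
  rw [h]
  funext m
  rw [Pi.add_apply, sr_apply, act_w8_sr]
  exact chkU j m

theorem mem_Ph_self {b : Fin 4 → Fin 8 → ℤ} (hb : ∀ i, Rt (b i)) (i : Fin 4) : b i ∈ Ph b := by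
  refine ⟨hb i, fun j => if j = i then 1 else 0, ?_⟩
  simp

theorem qq_mem_RL (k : Bool) (i : Fin 4) : toL (qq k i) ∈ RL := by
  rw [toL_qq]
  revert k i
  decide +kernel

theorem rt_qq (k : Bool) (i : Fin 4) : Rt (qq k i) := (rt_iff _).2 (qq_mem_RL k i)

theorem rt_q1 (i : Fin 4) : Rt (q1 i) := rt_qq false i

theorem rt_q2 (i : Fin 4) : Rt (q2 i) := rt_qq true i

/-- the lattice spanned by the roots of `SS b` -/
def Mb (b : Fin 4 → Fin 8 → ℤ) : Submodule ℤ (Fin 8 → ℤ) := Submodule.span ℤ (SS b)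

theorem mem_Mb {b : Fin 4 → Fin 8 → ℤ} (hb : ∀ i, Rt (b i)) (i : Fin 4) : b i ∈ Mb b :=
  Submodule.subset_span (mem_SS.2 (Or.inl (mem_Ph_self hb i)))

theorem w8_mem_Mb {b : Fin 4 → Fin 8 → ℤ} (hb : ∀ i, Rt (b i)) (i : Fin 4) : act w8 (b i) ∈ Mb b :=
  Submodule.subset_span (mem_SS.2 (Or.inr ⟨b i, mem_Ph_self hb i, rfl⟩))

theorem add_mem_M1 (x : Fin 8 → ℤ) : x + act w8 x ∈ Mb q1 := by
  have h : x + act w8 x = ∑ j, x j • ((sr j : Fin 8 → ℤ) + act w8 (sr j)) := by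
    conv_lhs => rw [eq_sum_sr x]
    rw [map_sum, ← Finset.sum_add_distrib]
    refine Finset.sum_congr rfl fun j _ => ?_
    rw [map_smul, smul_add]
  rw [h]
  refine Submodule.sum_mem _ fun j _ => Submodule.smul_mem _ _ ?_
  rw [sr_add_w8]
  exact Submodule.add_mem _ (Submodule.sum_mem _ fun i _ => Submodule.smul_mem _ _ (mem_Mb rt_q1 i))
    (Submodule.sum_mem _ fun i _ => Submodule.smul_mem _ _ (w8_mem_Mb rt_q1 i))

/-- the linear form given by a vector -/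
def lf (f : Fin 8 → ℤ) : (Fin 8 → ℤ) →ₗ[ℤ] ℤ where
  toFun x := ∑ m, f m * x m
  map_add' x y := by simp only [Pi.add_apply, mul_add, Finset.sum_add_distrib]
  map_smul' c x := by
    simp only [Pi.smul_apply, smul_eq_mul, Finset.mul_sum, RingHom.id_apply]
    exact Finset.sum_congr rfl fun m _ => by ring

theorem lf_apply (f x : Fin 8 → ℤ) : lf f x = ∑ m, f m * x m := rfl

theorem lf_even {b : Fin 4 → Fin 8 → ℤ} {f : Fin 8 → ℤ} (h1 : ∀ i, 2 ∣ lf f (b i)) (h2 : ∀ i, 2 ∣ lf f (act w8 (b i)))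
    {x : Fin 8 → ℤ} (hx : x ∈ Mb b) : 2 ∣ lf f x := by
  have hle : Mb b ≤ (Submodule.comap (lf f) (Ideal.span {(2 : ℤ)} : Ideal ℤ)) := by
    rw [Mb, Submodule.span_le]
    intro a ha
    rw [SetLike.mem_coe, Submodule.mem_comap, Ideal.mem_span_singleton]
    rcases mem_SS.1 ha with ⟨-, c, hc⟩ | ⟨y, ⟨-, c, hc⟩, hy⟩
    · rw [hc, map_sum]
      refine Finset.dvd_sum fun i _ => ?_
      rw [map_smul, smul_eq_mul]
      exact (h1 i).mul_left _
    · rw [hy, hc, map_sum, map_sum]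
      refine Finset.dvd_sum fun i _ => ?_
      rw [map_smul, map_smul, smul_eq_mul]
      exact (h2 i).mul_left _
  exact Ideal.mem_span_singleton.1 (hle hx)

/-- two linear forms which are even on the lattice of the system `k` -/
def ff : Bool → Fin 2 → Fin 8 → ℤ
  | false => ![![0, 1, 1, 0, 1, 0, 0, 1], ![1, 0, 0, 0, 0, 0, 0, 0]]
  | true => ![![0, 0, 1, 0, 0, 1, 0, 1], ![0, 1, 0, 0, 1, 1, 0, 0]]

theorem chkF : ∀ (k : Bool) (a : Fin 2) (i : Fin 4), (∑ m, ff k a m * ((qL k).getD i []).getD m 0) % 2 = 0 ∧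
    (∑ m, ff k a m * (JL ((qL k).getD i [])).getD m 0) % 2 = 0 := by decide +kernel

theorem ff_even (k : Bool) (a : Fin 2) {x : Fin 8 → ℤ} (hx : x ∈ Mb (qq k)) : 2 ∣ lf (ff k a) x := by
  refine lf_even (fun i => ?_) (fun i => ?_) hx
  · rw [lf_apply]
    simp only [qq_apply]
    exact Int.dvd_of_emod_eq_zero (chkF k a i).1
  · rw [lf_apply]
    simp only [w8_qq_apply]
    exact Int.dvd_of_emod_eq_zero (chkF k a i).2

theorem not_mem_M2 : (sr 1 : Fin 8 → ℤ) + act w8 (sr 1) ∉ Mb q2 := by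
  intro h
  have h1 := ff_even true 0 h
  have h2 : lf (ff true 0) ((sr 1 : Fin 8 → ℤ) + act w8 (sr 1)) =
      ∑ m, ff true 0 m * ((if m = 1 then (1 : ℤ) else 0) + WM m 1) := by
    rw [lf_apply]
    refine Finset.sum_congr rfl fun m _ => ?_
    rw [Pi.add_apply, sr_apply, act_w8_sr]
  rw [h2] at h1
  revert h1
  decide +kernel

theorem map_Mb {b c : Fin 4 → Fin 8 → ℤ} {v : W8} (h : act v '' SS b = SS c) {x : Fin 8 → ℤ} (hx : x ∈ Mb b) :
    act v x ∈ Mb c := by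
  have h1 : (Mb b).map (act v) = Mb c := by rw [Mb, Submodule.map_span, h, Mb]
  rw [← h1]
  exact Submodule.mem_map_of_mem hx

/-- **C2.** -/
theorem not_conj : ¬ ∃ v ∈ CW, act v '' SS q1 = SS q2 := by
  rintro ⟨v, hv, h⟩
  refine not_mem_M2 ?_
  have h1 := map_Mb h (add_mem_M1 (act v⁻¹ (sr 1)))
  rwa [map_add, mem_CW.1 hv, act_inv_act] at h1

end Cfsg.Agent.H136.EE
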